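import Cfsg.Agent.Mrg.Omega.NO3S.EMany.LowExt


/-!
# THEOREM KL* with bad parabolics (bb #24309 (6) (alpha), #24575 (R), #24701; literal of helper210)

`H` acts on the elementary abelian 2-group `M` (not necessarily faithfully), `T` is a Sylow 2-subgroup, `Z ≤ C_M(T)`,
`N_H(T)` normalises `Y`, `C_Y(T) ≤ C_M(H)`; `A` is an exact atom on `M`, `A ≰ O₂(H)`, `A ≤ O₂(C_H(Y) T)`;
`N_H(T) ≤ D` and `A ≤ O₂(D)`.  A `T`-minimal `P` which is not in `D` moves `Z` and its elements of odd order centralise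
`Y`; a `T`-minimal `P ≤ D` fixes `Z` pointwise or normalises `Y`.

* `exists_min` : a minimal `L ≥ T` with `A ≰ O₂(L)` and its `LB`;
* `InpD T A D Z Y` : this situation;
* **`InpD.exists_sysT`** : (ML) gives `Two.SysT` for a section of `(H, M)`;  **`InpD.false_of`**;
* `PreD` : the same for an `A` which is exact modulo the kernel;  `PreD.inp`.
-/

set_option autoImplicit false

namespace Cfsg.Agent.Omega.KL.StarQ

open Subgroup Cfsg Cfsg.Agent.ZN Cfsg.Agent.ClassTwoFusion.Quad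
open Cfsg.Agent.Omega.ML.MinFrame hiding comm_of_sq
open Cfsg.Agent.Omega.ML.Final Cfsg.Agent.Omega.NO3S.EMany.Low
open Cfsg.Agent.Omega.KL.Star.Core
open Cfsg.Agent.MinSimple.VModule (o2_isPGroup o2_le le_o2 le_normalizer_o2 o2_le_of_sylow oddGen oddGen_le oddGen_def)
open Cfsg.Agent.MinSimple.MinParabolic (IsMinPar le_of_forall)

universe u v

section

variable {H : Type u} [Group H] [Finite H] {M : Type v} [Group M] [MulDistribMulAction H M] {T A : Subgroup H}

/-- a minimal `L ≥ T` with `A ≰ O₂(L)` -/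
theorem exists_min (sq : ∀ m : M, m * m = 1) (two : IsPGroup 2 T) (syl : ¬ 2 ∣ T.index) (AT : A ≤ T)
    (el : ∀ a ∈ A, a * a = 1) (exact : (cv M (A : Set H)).index = Nat.card A)
    (atom : ∀ C : Subgroup H, C ≤ A → C ≠ ⊥ → C ≠ A → Nat.card C < (cv M (C : Set H)).index)
    (nA : ¬ A ≤ o2 (⊤ : Subgroup H)) (KH : IsKGroup H) :
    ∃ L : Subgroup H, T ≤ L ∧ ¬ A ≤ o2 L ∧ LB L M (T.subgroupOf L) (A.subgroupOf L) ∧
      ∀ g : L, g ∈ normalizer ((T.subgroupOf L : Subgroup L) : Set L) → (g : H) ∈ normalizer (T : Set H) := by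
  -- `L` minimal
  obtain ⟨L, ⟨hTL, hAL⟩, hmin⟩ : ∃ L : Subgroup H, (T ≤ L ∧ ¬ A ≤ o2 L) ∧
      ∀ R : Subgroup H, (T ≤ R ∧ ¬ A ≤ o2 R) → R ≤ L → R = L := by
    have hfin : {L : Subgroup H | T ≤ L ∧ ¬ A ≤ o2 L}.Finite := Set.toFinite _
    obtain ⟨B, hB⟩ := hfin.exists_minimal ⟨⊤, le_top, nA⟩
    exact ⟨B, hB.1, fun C hC hCB => le_antisymm hCB (hB.2 hC hCB)⟩
  have hAL' : A ≤ L := AT.trans hTL
  have e1 : ∀ {C : Subgroup H}, C ≤ L → (C.subgroupOf L).map L.subtype = C := fun {C} hC => by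
    rw [subgroupOf_map_subtype, inf_eq_left.2 hC]
  have hcv : ∀ C : Subgroup L, cv M (C : Set L) = cv M ((C.map L.subtype : Subgroup H) : Set H) := by
    intro C
    ext m
    constructor
    · rintro hm _ ⟨c, hc, rfl⟩
      exact hm c hc
    · exact fun hm c hc => hm _ ⟨c, hc, rfl⟩
  have hcard : ∀ C : Subgroup L, Nat.card (C.map L.subtype) = Nat.card C := fun C =>
    card_map_of_injective L.subtype_injective
  have hlb : LB L M (T.subgroupOf L) (A.subgroupOf L) := by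
    refine ⟨sq, two.comap_subtype, fun h2 => ?_, fun x hx => AT hx, fun b hb => Subtype.ext (el b hb), ?_, ?_, ?_, ?_,
      sec_KG.sub H KH L⟩
    · exact syl (h2.trans (relIndex_dvd_index_of_le hTL))
    · rw [hcv, e1 hAL', exact, ← hcard, e1 hAL']
    · intro C hC hC1 hCF
      rw [hcv, ← hcard]
      refine atom _ ?_ ?_ ?_
      · rintro _ ⟨c, hc, rfl⟩
        exact hC hc
      · intro h1
        exact hC1 ((Subgroup.map_eq_bot_iff_of_injective _ L.subtype_injective).1 h1)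
      · intro h1
        apply hCF
        rw [← h1]
        exact (comap_map_eq_self_of_injective L.subtype_injective C).symm
    · intro R hTR hR
      have h1 : R.map L.subtype ≠ L := by
        intro h2
        apply hR
        rw [eq_top_iff]
        intro r _
        have h3 : (r : H) ∈ R.map L.subtype := by
          rw [h2]
          exact r.2
        obtain ⟨s, hs, hsr⟩ := h3
        rwa [← (Subtype.ext hsr : s = r)]
      have h2 : T ≤ R.map L.subtype := fun t ht => ⟨⟨t, hTL ht⟩, hTR ht, rfl⟩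
      have h3 : A ≤ o2 (R.map L.subtype) := by
        by_contra hc
        exact h1 (hmin _ ⟨h2, hc⟩ (map_subtype_le R))
      exact fun x hx => KL.GenTool.o2_subgroupOf_le R (h3 hx)
    · intro hc
      apply hAL
      have h1 := (map_mono (f := L.subtype) hc).trans (KL.GenTool.o2_map_le L.subtype ⊤)
      rw [e1 hAL', ← MonoidHom.range_eq_map, L.range_subtype] at h1
      exact h1
  refine ⟨L, hTL, hAL, hlb, ?_⟩
  -- normalizers of `T`
  intro g hg
  rw [mem_normalizer_iff] at hg ⊢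
  intro t
  constructor
  · intro ht
    exact (hg ⟨t, hTL ht⟩).1 ht
  · intro ht
    have h1 : t ∈ L := by
      have h2 := L.mul_mem (L.mul_mem (L.inv_mem g.2) (hTL ht)) g.2
      have e : (g : H)⁻¹ * (g * t * (g : H)⁻¹) * g = t := by group
      rwa [e] at h2
    exact (hg ⟨t, h1⟩).2 ht

end

/-- **The input of THEOREM KL* with bad parabolics** -/
structure InpD {H : Type u} [Group H] {M : Type v} [Group M] [MulDistribMulAction H M] (T A D : Subgroup H)
    (Z Y : Subgroup M) : Prop where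
  sq : ∀ m : M, m * m = 1
  two : IsPGroup 2 T
  syl : ¬ 2 ∣ T.index
  tZ : ∀ z ∈ Z, ∀ t ∈ T, t • z = z
  NY : ∀ g ∈ normalizer (T : Set H), ∀ w ∈ Y, g • w ∈ Y
  /-- the `T`-fixed vectors of `Y` are fixed by `H` -/
  cY : ∀ w ∈ Y, (∀ t ∈ T, t • w = w) → ∀ g : H, g • w = w
  ND : normalizer (T : Set H) ≤ D
  AD : A ≤ o2 D
  /-- a `T`-minimal `P` which is not in `D` -/
  good : ∀ P : Subgroup H, IsMinPar T P → ¬ P ≤ D →
    (∀ g ∈ P, Odd (orderOf g) → ∀ w ∈ Y, g • w = w) ∧ ∃ z ∈ Z, ∃ p ∈ P, p • z ≠ z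
  /-- a `T`-minimal `P ≤ D` -/
  bad : ∀ P : Subgroup H, IsMinPar T P → P ≤ D → (∀ z ∈ Z, ∀ p ∈ P, p • z = z) ∨ ∀ p ∈ P, ∀ w ∈ Y, p • w ∈ Y
  el : ∀ a ∈ A, a * a = 1
  exact : (cv M (A : Set H)).index = Nat.card A
  atom : ∀ C : Subgroup H, C ≤ A → C ≠ ⊥ → C ≠ A → Nat.card C < (cv M (C : Set H)).index
  nA : ¬ A ≤ o2 (⊤ : Subgroup H)
  AY : A ≤ o2 (fxr H Y ⊔ T)
  KH : IsKGroup H

namespace InpD

variable {H : Type u} [Group H] [Finite H] {M : Type v} [Group M] [Finite M] [MulDistribMulAction H M]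
  {T A D : Subgroup H} {Z Y : Subgroup M}

omit [Finite M] in
theorem TD (i : InpD T A D Z Y) : T ≤ D := le_normalizer.trans i.ND

omit [Finite M] in
theorem AT (i : InpD T A D Z Y) : A ≤ T :=
  i.AD.trans (o2_le_of_sylow i.two fun h2 => i.syl (h2.trans (relIndex_dvd_index_of_le i.TD)))

/-- **THEOREM KL* with bad parabolics.** -/
theorem exists_sysT (i : InpD T A D Z Y) (hM : MLK.{u, v}) :
    ∃ (H' : Type u) (_ : Group H') (_ : Finite H') (N : Type v) (_ : Group N) (_ : Finite N)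
      (_ : MulDistribMulAction H' N) (T' A' : Subgroup H') (x' y' : N), ML.Ex.Two.SysT H' N T' A' x' y' := by
  obtain ⟨L, hTL, hAL, hlb, hNN⟩ := exists_min i.sq i.two i.syl i.AT i.el i.exact i.atom i.nA i.KH
  have hAL' : A ≤ L := i.AT.trans hTL
  -- a `T`-minimal subgroup of `L` which is not in `D`
  obtain ⟨P, hPm, hPD⟩ : ∃ P : Subgroup L, IsMinPar (T.subgroupOf L) P ∧ ¬ P.map L.subtype ≤ D := by
    by_contra hc
    push Not at hc
    apply hAL
    have h1 : (⊤ : Subgroup L) ≤ D.subgroupOf L := by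
      refine le_of_forall (S := T.subgroupOf L) le_top (fun g hg => ?_) fun P hP _ p hp => ?_
      · exact mem_subgroupOf.2 (i.ND (hNN g hg.2))
      · exact mem_subgroupOf.2 (hc P hP ⟨p, hp, rfl⟩)
    have h2 : L ≤ D := fun g hg => h1 (mem_top (⟨g, hg⟩ : L))
    exact (le_inf i.AD hAL').trans (InpG.o2_le_o2_of_le h2)
  have hPm' := KL.GenTool.minPar_map_subtype hTL hPm
  obtain ⟨hPY, x, hxZ, _, ⟨p, hp, rfl⟩, hpx⟩ := i.good _ hPm' hPD
  -- `L ≠ C_L(Y) T`
  have hY : ¬ ∀ g : L, Odd (orderOf g) → ∀ w ∈ Y, g • w = w := by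
    intro hc
    apply hAL
    have h1 : oddGen L ⊔ T = L := oddGen_sup hTL fun h2 => i.syl (h2.trans (relIndex_dvd_index_of_le hTL))
    have h2 : L ≤ fxr H Y ⊔ T := by
      rw [← h1]
      refine sup_le_sup_right ?_ T
      rw [oddGen_def, closure_le]
      rintro g ⟨hgL, hgo⟩ w hw
      exact hc ⟨g, hgL⟩ (by rwa [orderOf_mk]) w hw
    exact (le_inf i.AY hAL').trans (InpG.o2_le_o2_of_le h2)
  refine exists_of_coreN hlb hM (x := x) (fun t ht => i.tZ x hxZ _ ht) (Y := Y)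
    (fun g hg w hw => i.NY g (hNN g hg) w hw) (fun w hw tw g => i.cY w hw (fun t ht => tw ⟨t, hTL ht⟩ ht) g) hY
    (fun R hR => ?_) ⟨P, hPm.le, ⟨p, hp, hpx⟩, fun g hg hgo w hw => hPY _ ⟨g, hg, rfl⟩ ?_ w hw⟩
  · have hR' := KL.GenTool.minPar_map_subtype hTL hR
    by_cases hRD : R.map L.subtype ≤ D
    · rcases i.bad _ hR' hRD with h1 | h1
      · exact Or.inl fun q hq => h1 x hxZ _ ⟨q, hq, rfl⟩
      · refine Or.inr (Or.inr ⟨?_, fun q hq w hw => h1 _ ⟨q, hq, rfl⟩ w hw⟩)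
        have h2 : A ≤ o2 (R.map L.subtype) :=
          (le_inf i.AD (i.AT.trans (KL.GenTool.minPar_map_subtype hTL hR).le)).trans (InpG.o2_le_o2_of_le hRD)
        exact fun a ha => KL.GenTool.o2_subgroupOf_le R (h2 ha)
    · refine Or.inr (Or.inl fun g hg hgo w hw => (i.good _ hR' hRD).1 _ ⟨g, hg, rfl⟩ ?_ w hw)
      rwa [Subgroup.coe_subtype, orderOf_coe]
  · rwa [Subgroup.coe_subtype, orderOf_coe]

/-- **THEOREM KL* with bad parabolics**, with EXT -/
theorem false_of (hM : MLK.{u, v}) (hE : ML.Ex.Two.Ext.{u, v}) (i : InpD T A D Z Y) : False := by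
  obtain ⟨H', i1, i2, N, i3, i4, i5, T', A', x', y', h⟩ := i.exists_sysT hM
  exact hE H' N T' A' x' y' h

end InpD

end Cfsg.Agent.Omega.KL.StarQ
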