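import Cfsg.Agent.Mrg.Omega.NO3S.EMany.LowExt
import Cfsg.Agent.Mrg.Omega.KL.TwoZ.Inp


/-!
# THEOREM KL*(q) with the odd centre killed by lifts (helper918 #24006 (1) (z)); the abstract half of THEOREM G*

`Y` is pointwise `T`-fixed (but not central), `cG` replaces 'the `T`-fixed vectors of `Y` are fixed by `H`': an odd
`g ∈ N_L(T)` such that `[g, T]` centralises `⟨x^L⟩` centralises `Y`.

* `exists_of_coreG` : the end of the machine over `LB`, with `O(H) = 1`;
* `InpG T A Z Y` : this situation; **`InpG.exists_sysW`**, **`InpG.exists_sysT`**, **`InpG.false_of`**;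
* `PreG` : the same for an `A` which is exact modulo the kernel; **`PreG.inp`** : `PreG → InpG`.
-/

set_option autoImplicit false
set_option linter.unusedSectionVars false

namespace Cfsg.Agent.Omega.KL.StarQ

open Subgroup Cfsg Cfsg.Agent.ZN Cfsg.Agent.ClassTwoFusion.Quad
open Cfsg.Agent.Omega.ML.MinFrame hiding comm_of_sq
open Cfsg.Agent.Omega.ML.Final Cfsg.Agent.Omega.NO3S.EMany.Low
open Cfsg.Agent.Omega.KL.Star.Core
open Cfsg.Agent.MinSimple.VModule (o2_isPGroup o2_le le_o2 le_normalizer_o2 o2_le_of_sylow oddGen oddGen_le oddGen_def)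
open Cfsg.Agent.MinSimple.MinParabolic (IsMinPar le_of_forall)

universe u v

section

variable {H : Type u} [Group H] [Finite H] {M : Type v} [Group M] [Finite M] [MulDistribMulAction H M]
  {T A : Subgroup H}

/-- **the end over `LB`** -/
theorem exists_of_coreG (h : LB H M T A) (hM : MLK.{u, v}) {x : M} (tx : ∀ t ∈ T, t • x = x)
    {Y : Subgroup M} (tY : ∀ t ∈ T, ∀ w ∈ Y, t • w = w)
    (cG : ∀ g ∈ normalizer (T : Set H), Odd (orderOf g) →
      (∀ t ∈ T, ∀ l : H, (g * t * g⁻¹ * t⁻¹) • l • x = l • x) →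
      (∀ w ∈ Y, ∃ w0 : M, (∀ l : H, l • w0 = w0) ∧ w * w0 ∈ orb (⊤ : Subgroup H) x) → ∀ w ∈ Y, g • w = w)
    (hY : ¬ ∀ g : H, Odd (orderOf g) → ∀ w ∈ Y, g • w = w)
    (par : ∀ P : Subgroup H, IsMinPar T P → (∀ p ∈ P, p • x = x) ∨ ∀ g ∈ P, Odd (orderOf g) → ∀ w ∈ Y, g • w = w)
    (mv : ∃ P : Subgroup H, IsMinPar T P ∧ ∃ p ∈ P, p • x ≠ x) :
    ∃ (H' : Type u) (_ : Group H') (_ : Finite H') (N : Type v) (_ : Group N) (_ : Finite N)
      (_ : MulDistribMulAction H' N) (T' A' : Subgroup H') (x' y' : N), SysW T' A' x' y' ∧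
      ∀ K : Subgroup H', K.Normal → Odd (Nat.card K) → K = ⊥ := by
  have hx : ¬ ∀ g : H, g • x = x := by
    obtain ⟨P, -, p, -, hp⟩ := mv
    exact fun hc => hp (hc p)
  have TY : ∀ t ∈ T, ∀ w ∈ Y, t • w ∈ Y := fun t ht w hw => by rw [tY t ht w hw]; exact hw
  obtain ⟨N, i1, i2, i3, A', x', u', c⟩ := core h hM tx hx TY hY
  -- minimal parabolics
  have hP : ∀ P : Subgroup H, IsMinPar T P → (∀ p ∈ P, p • x' = x') ∨ ∀ p ∈ P, p • u' = u' := by
    intro P hP
    rcases par P hP with h1 | h2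
    · exact Or.inl ((c.sx P hP.le).2 h1)
    · right
      have h3 : oddGen P ⊔ T = P := oddGen_sup hP.le
        fun h2 => h.syl (h2.trans (relIndex_dvd_index_of_le hP.le))
      have h4 : P ≤ MulAction.stabilizer H u' := by
        rw [← h3]
        refine sup_le ?_ fun t ht => c.tu t ht
        rw [oddGen_def, closure_le]
        rintro g ⟨hgP, hgo⟩
        exact c.su g hgo fun w hw => h2 g hgP hgo w hw
      exact fun p hp => h4 hp
  obtain ⟨P, hPm, p, hp, hpx⟩ := mv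
  have hPx' : ∃ p ∈ P, p • x' ≠ x' := by
    by_contra hc
    push Not at hc
    exact hpx ((c.sx P hPm.le).1 hc p hp)
  have hPu : ∀ p ∈ P, p • u' = u' := (hP P hPm).resolve_left fun h1 => by
    obtain ⟨q, hq, hqx⟩ := hPx'
    exact hqx (h1 q hq)
  -- shift
  obtain ⟨x1, hx1, hxs⟩ := c.lb.shift c.tx
  obtain ⟨u1, hu1, hus⟩ := c.lb.shift c.tu
  have tx1 : ∀ t ∈ T, t • x1 = x1 := fun t ht => (hxs t).2 (c.tx t ht)
  have tu1 : ∀ t ∈ T, t • u1 = u1 := fun t ht => (hus t).2 (c.tu t ht)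
  have mx1 : ¬ ∀ g : H, g • x1 = x1 := fun hc => c.mx fun g => (hxs g).1 (hc g)
  have mu1 : ¬ ∀ g : H, g • u1 = u1 := fun hc => c.mu fun g => (hus g).1 (hc g)
  obtain ⟨H', j1, j2, N', j3, j4, j5, π, f, B, o, hs⟩ := c.lb.exists_sysW₀ hM tx1 tu1 hx1 hu1 mu1
    (by
      obtain ⟨q, hq, hqx⟩ := hPx'
      exact ⟨P, hPm, ⟨q, hq, fun hc => hqx ((hxs q).1 hc)⟩, fun q hq => (hus q).2 (hPu q hq)⟩)
    (fun P hP' => by
      rcases hP P hP' with h1 | h1
      · exact ⟨x1, hx1, mx1, fun q hq => (hxs q).2 (h1 q hq)⟩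
      · exact ⟨u1, hu1, mu1, fun q hq => (hus q).2 (h1 q hq)⟩)
  refine ⟨H', j1, j2, N', j3, j4, j5, _, B, _, _, hs, fun K hK hKo => ?_⟩
  have hcen := odd_le_center hs hK hKo
  by_contra hne
  obtain ⟨⟨ν, hν⟩, hν1'⟩ := (Subgroup.ne_bot_iff_exists_ne_one).1 hne
  have hν1 : ν ≠ 1 := fun h1 => hν1' (Subtype.ext h1)
  have hνc : ∀ g : H', g * ν = ν * g := fun g => mem_center_iff.1 (hcen hν) g
  have hνT : ν ∈ normalizer ((T.map π : Subgroup H') : Set H') := by
    rw [mem_normalizer_iff]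
    intro g
    rw [← hνc g, mul_inv_cancel_right]
  obtain ⟨_, ⟨t, ht, rfl⟩, n, hn, hνn⟩ := KL.GenTool.exists_normalizer_map π o.πs h.two h.syl hνT
  obtain ⟨a, ha1, ha2⟩ := exists_pow h.two ht n
  set g : H := n ^ 2 ^ a with hg
  have hgN : g ∈ normalizer (T : Set H) := (normalizer (T : Set H)).pow_mem hn _
  have hπg : π g = ν ^ 2 ^ a := by
    have h1 : Commute (π t) ν := hνc _
    have h2 : π n = (π t)⁻¹ * ν := by rw [hνn]; group
    have h3 : Commute (π t)⁻¹ ν := h1.inv_left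
    rw [hg, map_pow, h2, h3.mul_pow, inv_pow, ← map_pow, ha1, map_one, inv_one, one_mul]
  have hπg1 : π g ≠ 1 := by
    rw [hπg]
    intro h1
    apply hν1
    have h2 : orderOf ν ∣ 2 ^ a := orderOf_dvd_of_pow_eq_one h1
    have h3 : orderOf ν ∣ Nat.card K := by
      have := orderOf_dvd_natCard (⟨ν, hν⟩ : K)
      rwa [orderOf_mk] at this
    have h4 : Odd (orderOf ν) := hKo.of_dvd_nat h3
    have h5 : (2 ^ a).Coprime (orderOf ν) := Nat.Coprime.pow_left a (Nat.coprime_two_left.mpr h4)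
    exact orderOf_eq_one_iff.1 (Nat.eq_one_of_dvd_coprimes h5 h2 dvd_rfl)
  have hπc : ∀ k ∈ zpowers g, ∀ s : H', s * π k = π k * s := by
    intro k hk s
    have h1 : zpowers g ≤ (center H').comap π := by
      rw [zpowers_le, mem_comap, hπg]
      exact (center H').pow_mem (hcen hν) _
    exact mem_center_iff.1 (h1 hk) s
  -- the kernel of `π` fixes `x`
  have hkx' : ∀ k ∈ π.ker ⊔ T, k • x1 = x1 := by
    refine c.lb.fix_of_mod tx1 le_sup_right (I := cv N (Km A' : Set H))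
      (fun w hw tw g _ => c.lb.fix_of_cvKm tw hw g) fun k hk => ?_
    have h1 : π k • f ⟨x1, hx1⟩ = f ⟨x1, hx1⟩ := by
      obtain ⟨k1, hk1, s, hs', rfl⟩ := mem_sup_of_normal_left.1 hk
      rw [map_mul, (MonoidHom.mem_ker).1 hk1, one_mul, ← o.eqv s ⟨x1, hx1⟩]
      exact congrArg f (Subtype.ext (tx1 s hs'))
    rw [← o.eqv k ⟨x1, hx1⟩, ← mul_inv_eq_one, ← map_inv, ← map_mul, o.ker] at h1
    exact h1
  have hkx : ∀ k ∈ π.ker, k • x = x := by
    have h1 : ∀ k ∈ π.ker ⊔ T, k • x' = x' := fun k hk => (hxs k).1 (hkx' k hk)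
    exact fun k hk => (c.sx _ le_sup_right).1 h1 k (mem_sup_left hk)
  have hkO : ∀ k ∈ π.ker, ∀ l : H, k • l • x = l • x := by
    intro k hk s
    have h2 := hkx (s⁻¹ * k * s) (by
      have := (inferInstance : (π.ker).Normal).conj_mem k hk s⁻¹
      rwa [inv_inv] at this)
    rwa [mul_smul, mul_smul, inv_smul_eq_iff] at h2
  -- `g` centralises `Y`
  have hgY : ∀ w ∈ Y, g • w = w := by
    refine cG g hgN ha2 (fun t ht l => hkO _ ?_ l) fun w hw => ?_
    · rw [MonoidHom.mem_ker, map_mul, map_mul, map_mul, map_inv, map_inv, ← hπc g (mem_zpowers g) (π t),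
        mul_inv_cancel_right, mul_inv_cancel]
    · obtain ⟨w0, h1, h2⟩ := exists_fix_coset h.sq (R := (⊤ : Subgroup H)) (by rw [relIndex_top_right]; exact h.syl)
        (fun t ht => tY t ht w hw) (fun k _ => h.orb_eq (fun t ht => tY t ht w hw) k)
      refine ⟨w0, fun l => h1 l (mem_top l), ?_⟩
      have h3 := h.cmm_le hM tx hx h2
      have e : w * w0 = w0 * w⁻¹ := by
        have h4 : w⁻¹ = w := inv_eq_of_mul_eq_one_right (h.sq w)
        rw [h4]
        exact Cfsg.Agent.Omega.NO3S.EMany.Low.comm_of_sq h.sq _ _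
      rw [e]
      exact h3
  -- so `π g` fixes the second vector
  have hgu : g • u1 = u1 := (hus g).2 (c.su g ha2 hgY)
  have hfix : π g • f ⟨u1, hu1⟩ = f ⟨u1, hu1⟩ := by
    rw [← o.eqv g ⟨u1, hu1⟩]
    exact congrArg f (Subtype.ext hgu)
  have hnor : (zpowers (π g)).Normal := by
    refine ⟨fun k hk s => ?_⟩
    have h1 : k ∈ center H' := by
      have h2 : zpowers (π g) ≤ center H' := by
        rw [zpowers_le, hπg]
        exact (center H').pow_mem (hcen hν) _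
      exact h2 hk
    rw [mem_center_iff.1 h1 s, mul_inv_cancel_right]
    exact hk
  have h1 := hs.bot_of_fix hnor hs.y1 fun k hk => by
    have h2 : zpowers (π g) ≤ MulAction.stabilizer H' (f ⟨u1, hu1⟩) := by
      rw [zpowers_le]
      exact hfix
    exact h2 hk
  exact hπg1 (by
    have h2 := mem_zpowers (π g)
    rw [h1] at h2
    exact mem_bot.1 h2)

end

/-- **The input**: `Y` pointwise `T`-fixed, the odd centre is controlled by `cG` -/
structure InpG {H : Type u} [Group H] {M : Type v} [Group M] [MulDistribMulAction H M] (T A : Subgroup H)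
    (Z Y : Subgroup M) : Prop where
  sq : ∀ m : M, m * m = 1
  two : IsPGroup 2 T
  syl : ¬ 2 ∣ T.index
  tZ : ∀ z ∈ Z, ∀ t ∈ T, t • z = z
  NZ : ∀ g ∈ normalizer (T : Set H), ∀ z ∈ Z, g • z ∈ Z
  tY : ∀ t ∈ T, ∀ w ∈ Y, t • w = w
  /-- a `T`-minimal `P` fixes `Z` pointwise, or its elements of odd order centralise `Y` -/
  par : ∀ P : Subgroup H, IsMinPar T P → (∀ z ∈ Z, ∀ p ∈ P, p • z = z) ∨
    ∀ g ∈ P, Odd (orderOf g) → ∀ w ∈ Y, g • w = w
  cG : ∀ L : Subgroup H, T ≤ L → ∀ x ∈ Z, ∀ g ∈ L, g ∈ normalizer (T : Set H) → Odd (orderOf g) →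
    (∀ t ∈ T, ∀ l ∈ L, (g * t * g⁻¹ * t⁻¹) • l • x = l • x) →
    (∀ w ∈ Y, ∃ w0 : M, (∀ l ∈ L, l • w0 = w0) ∧ w * w0 ∈ orb L x) → ∀ w ∈ Y, g • w = w
  el : ∀ a ∈ A, a * a = 1
  exact : (cv M (A : Set H)).index = Nat.card A
  atom : ∀ C : Subgroup H, C ≤ A → C ≠ ⊥ → C ≠ A → Nat.card C < (cv M (C : Set H)).index
  nT : ¬ A ≤ o2 (⊤ : Subgroup H)
  AZ : A ≤ o2 (fxr H Z)
  AY : A ≤ o2 (fxr H Y ⊔ T)
  KH : IsKGroup H

namespace InpG

variable {H : Type u} [Group H] [Finite H] {M : Type v} [Group M] [Finite M] [MulDistribMulAction H M]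
  {T A : Subgroup H} {Z Y : Subgroup M}

omit [Finite M] in
theorem AT (i : InpG T A Z Y) : A ≤ T :=
  i.AZ.trans (o2_le_of_sylow i.two fun h2 => i.syl (h2.trans (relIndex_dvd_index_of_le fun t ht z hz => i.tZ z hz t ht)))

/-- **THEOREM KL*(q).** -/
theorem exists_sysW (i : InpG T A Z Y) (hM : MLK.{u, v}) :
    ∃ (H' : Type u) (_ : Group H') (_ : Finite H') (N : Type v) (_ : Group N) (_ : Finite N)
      (_ : MulDistribMulAction H' N) (T' A' : Subgroup H') (x' y' : N), SysW T' A' x' y' ∧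
      ∀ K : Subgroup H', K.Normal → Odd (Nat.card K) → K = ⊥ := by
  -- `L` minimal
  obtain ⟨L, ⟨hTL, hAL⟩, hmin⟩ : ∃ L : Subgroup H, (T ≤ L ∧ ¬ A ≤ o2 L) ∧
      ∀ R : Subgroup H, (T ≤ R ∧ ¬ A ≤ o2 R) → R ≤ L → R = L := by
    have hfin : {L : Subgroup H | T ≤ L ∧ ¬ A ≤ o2 L}.Finite := Set.toFinite _
    obtain ⟨B, hB⟩ := hfin.exists_minimal ⟨⊤, le_top, i.nT⟩
    exact ⟨B, hB.1, fun C hC hCB => le_antisymm hCB (hB.2 hC hCB)⟩
  have hAT := i.AT
  have hAL' : A ≤ L := hAT.trans hTL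
  have e1 : ∀ {C : Subgroup H}, C ≤ L → (C.subgroupOf L).map L.subtype = C := fun {C} hC => by
    rw [subgroupOf_map_subtype, inf_eq_left.2 hC]
  have hcv : ∀ C : Subgroup L, cv M (C : Set L) = cv M ((C.map L.subtype : Subgroup H) : Set H) := by
    intro C
    ext m
    constructor
    · rintro hm _ ⟨c, hc, rfl⟩
      exact hm c hc
    · exact fun hm c hc => hm _ ⟨c, hc, rfl⟩
  have hcard : ∀ C : Subgroup L, Nat.card (C.map L.subtype) = Nat.card C := fun C =>
    card_map_of_injective L.subtype_injective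
  have hlb : LB L M (T.subgroupOf L) (A.subgroupOf L) := by
    refine ⟨i.sq, i.two.comap_subtype, fun h2 => ?_, fun x hx => hAT hx, fun b hb => Subtype.ext (i.el b hb), ?_, ?_, ?_, ?_,
      sec_KG.sub H i.KH L⟩
    · exact i.syl (h2.trans (relIndex_dvd_index_of_le hTL))
    · rw [hcv, e1 hAL', i.exact, ← hcard, e1 hAL']
    · intro C hC hC1 hCF
      rw [hcv, ← hcard]
      refine i.atom _ ?_ ?_ ?_
      · rintro _ ⟨c, hc, rfl⟩
        exact hC hc
      · intro h1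
        exact hC1 ((Subgroup.map_eq_bot_iff_of_injective _ L.subtype_injective).1 h1)
      · intro h1
        apply hCF
        rw [← h1]
        exact (comap_map_eq_self_of_injective L.subtype_injective C).symm
    · intro R hTR hR
      have h1 : R.map L.subtype ≠ L := by
        intro h2
        apply hR
        rw [eq_top_iff]
        intro r _
        have h3 : (r : H) ∈ R.map L.subtype := by
          rw [h2]
          exact r.2
        obtain ⟨s, hs, hsr⟩ := h3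
        rwa [← (Subtype.ext hsr : s = r)]
      have h2 : T ≤ R.map L.subtype := fun t ht => ⟨⟨t, hTL ht⟩, hTR ht, rfl⟩
      have h3 : A ≤ o2 (R.map L.subtype) := by
        by_contra hc
        exact h1 (hmin _ ⟨h2, hc⟩ (map_subtype_le R))
      exact fun x hx => KL.GenTool.o2_subgroupOf_le R (h3 hx)
    · intro hc
      apply hAL
      have h1 := (map_mono (f := L.subtype) hc).trans (KL.GenTool.o2_map_le L.subtype ⊤)
      rw [e1 hAL', ← MonoidHom.range_eq_map, L.range_subtype] at h1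
      exact h1
  -- normalizers of `T`
  have hNN : ∀ g : L, g ∈ normalizer ((T.subgroupOf L : Subgroup L) : Set L) → (g : H) ∈ normalizer (T : Set H) := by
    intro g hg
    rw [mem_normalizer_iff] at hg ⊢
    intro t
    constructor
    · intro ht
      exact (hg ⟨t, hTL ht⟩).1 ht
    · intro ht
      have h1 : t ∈ L := by
        have h2 := L.mul_mem (L.mul_mem (L.inv_mem g.2) (hTL ht)) g.2
        have e : (g : H)⁻¹ * (g * t * (g : H)⁻¹) * g = t := by group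
        rwa [e] at h2
      exact (hg ⟨t, h1⟩).2 ht
  -- a `T`-minimal subgroup of `L` which moves `Z`
  obtain ⟨P, hPm, hPZ⟩ : ∃ P : Subgroup L, IsMinPar (T.subgroupOf L) P ∧
      ¬ ∀ z ∈ Z, ∀ p ∈ P, p • z = z := by
    by_contra hc
    push Not at hc
    apply hAL
    -- `C_L(Z)` is normal in `L`
    let F : Subgroup H := fxr H Z ⊓ L
    have hTF : T ≤ F := le_inf (fun t ht z hz => i.tZ z hz t ht) hTL
    have h1 : (⊤ : Subgroup L) ≤ (normalizer (F : Set H)).subgroupOf L := by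
      refine le_of_forall (S := T.subgroupOf L) le_top (fun g hg => ?_) fun P hP _ p hp => ?_
      · rw [mem_subgroupOf]
        have hg1 := hNN g hg.2
        have hconj : ∀ k : H, k ∈ normalizer (T : Set H) → k ∈ L → ∀ w ∈ F, k * w * k⁻¹ ∈ F := by
          intro k hk hkL w hw
          refine ⟨fun z hz => ?_, L.mul_mem (L.mul_mem hkL hw.2) (L.inv_mem hkL)⟩
          have h2 := hw.1 _ (i.NZ k⁻¹ (inv_mem hk) z hz)
          rw [mul_smul, mul_smul, h2, smul_inv_smul]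
        rw [mem_normalizer_iff]
        intro w
        refine ⟨hconj g hg1 g.2 w, fun hw => ?_⟩
        have h2 := hconj (g : H)⁻¹ (inv_mem hg1) (L.inv_mem g.2) _ hw
        have e : (g : H)⁻¹ * (g * w * (g : H)⁻¹) * (g : H)⁻¹⁻¹ = w := by group
        rwa [e] at h2
      · rw [mem_subgroupOf]
        exact le_normalizer (show (p : H) ∈ F from ⟨fun z hz => hc P hP z hz p hp, p.2⟩)
    have h2 : L ≤ normalizer (F : Set H) := fun g hg => h1 (mem_top (⟨g, hg⟩ : L))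
    exact (le_inf i.AZ (hAT.trans hTF)).trans
      ((InpG.o2_le_o2_of_le inf_le_left).trans (o2_le_o2 inf_le_right h2))
  push Not at hPZ
  obtain ⟨x, hxZ, p, hp, hpx⟩ := hPZ
  have htx : ∀ t ∈ T.subgroupOf L, t • x = x := fun t ht => i.tZ x hxZ _ ht
  -- `L ≠ C_L(Y) T`
  have hY : ¬ ∀ g : L, Odd (orderOf g) → ∀ w ∈ Y, g • w = w := by
    intro hc
    apply hAL
    have h1 : oddGen L ⊔ T = L := oddGen_sup hTL fun h2 => i.syl (h2.trans (relIndex_dvd_index_of_le hTL))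
    have h2 : L ≤ fxr H Y ⊔ T := by
      rw [← h1]
      refine sup_le_sup_right ?_ T
      rw [oddGen_def, closure_le]
      rintro g ⟨hgL, hgo⟩ w hw
      exact hc ⟨g, hgL⟩ (by rwa [orderOf_mk]) w hw
    exact (le_inf i.AY hAL').trans (InpG.o2_le_o2_of_le h2)
  have horb : orb (⊤ : Subgroup L) x = orb L x := by
    apply le_antisymm
    · exact orb_le fun g _ => smul_mem_orb_self (g := (g : H)) g.2
    · exact orb_le fun g hg => smul_mem_orb_self (R := (⊤ : Subgroup L)) (g := (⟨g, hg⟩ : L)) (mem_top _)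
  refine exists_of_coreG hlb hM htx (Y := Y) (fun t ht w hw => i.tY _ ht w hw)
    (fun g hg hgo h1 h2 w hw => ?_) hY (fun R hR => ?_) ⟨P, hPm, p, hp, hpx⟩
  · refine i.cG L hTL x hxZ g g.2 (hNN g hg) (by rwa [orderOf_coe]) (fun t ht l hl => ?_) (fun w hw => ?_) w hw
    · exact h1 ⟨t, hTL ht⟩ ht ⟨l, hl⟩
    · obtain ⟨w0, h3, h4⟩ := h2 w hw
      exact ⟨w0, fun l hl => h3 ⟨l, hl⟩, by rw [← horb]; exact h4⟩
  rcases i.par _ (KL.GenTool.minPar_map_subtype hTL hR) with h1 | h2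
  · exact Or.inl fun q hq => h1 x hxZ _ ⟨q, hq, rfl⟩
  · refine Or.inr fun g hg hgo w hw => h2 _ ⟨g, hg, rfl⟩ ?_ w hw
    rwa [Subgroup.coe_subtype, orderOf_coe]

/-- **THEOREM KL*(q)**, with the output `Two.SysT` -/
theorem exists_sysT (i : InpG T A Z Y) (hM : MLK.{u, v}) :
    ∃ (H' : Type u) (_ : Group H') (_ : Finite H') (N : Type v) (_ : Group N) (_ : Finite N)
      (_ : MulDistribMulAction H' N) (T' A' : Subgroup H') (x' y' : N), ML.Ex.Two.SysT H' N T' A' x' y' := by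
  obtain ⟨H', i1, i2, N, i3, i4, i5, T', A', x', y', h, ho⟩ := i.exists_sysW hM
  exact ⟨H', i1, i2, N, i3, i4, i5, T', A', x', y', h.sysT ho⟩

/-- **THEOREM KL*(q)**, with EXT -/
theorem false_of (hM : MLK.{u, v}) (hE : ML.Ex.Two.Ext.{u, v}) (i : InpG T A Z Y) : False := by
  obtain ⟨H', i1, i2, N, i3, i4, i5, T', A', x', y', h⟩ := i.exists_sysT hM
  exact hE H' N T' A' x' y' h

end InpG

/-- the input of THEOREM KL*(q) for `C` acting on `M`, with an `A` which is exact modulo the kernel -/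
structure PreG {C : Type u} [Group C] {M : Type v} [Group M] [MulDistribMulAction C M] (T A : Subgroup C)
    (Z Y : Subgroup M) : Prop where
  sq : ∀ m : M, m * m = 1
  two : IsPGroup 2 T
  syl : ¬ 2 ∣ T.index
  tZ : ∀ z ∈ Z, ∀ t ∈ T, t • z = z
  NZ : ∀ g ∈ normalizer (T : Set C), ∀ z ∈ Z, g • z ∈ Z
  tY : ∀ t ∈ T, ∀ w ∈ Y, t • w = w
  par : ∀ P : Subgroup C, IsMinPar T P → (∀ z ∈ Z, ∀ p ∈ P, p • z = z) ∨
    ∀ g ∈ P, Odd (orderOf g) → ∀ w ∈ Y, g • w = w
  cG : ∀ L : Subgroup C, T ≤ L → ∀ x ∈ Z, ∀ g ∈ L, g ∈ normalizer (T : Set C) → Odd (orderOf g) →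
    (∀ t ∈ T, ∀ l ∈ L, (g * t * g⁻¹ * t⁻¹) • l • x = l • x) →
    (∀ w ∈ Y, ∃ w0 : M, (∀ l ∈ L, l • w0 = w0) ∧ w * w0 ∈ orb L x) → ∀ w ∈ Y, g • w = w
  el : ∀ a ∈ A, a * a = 1
  AZ : A ≤ o2 (fxr C Z)
  AY : A ≤ o2 (fxr C Y ⊔ T)
  /-- `A` is faithful on `⟨Z^C⟩` modulo the kernel -/
  nk : ∀ a ∈ A, (∀ (c : C), ∀ z ∈ Z, a • c • z = c • z) → ∀ m : M, a • m = m
  mv : ∃ a ∈ A, ∃ m : M, a • m ≠ m
  no : ∀ B : Subgroup C, B ≤ A → (fxr C (⊤ : Subgroup M)).relIndex B ≤ (cv M (B : Set C)).index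
  le : (cv M (A : Set C)).index ≤ (fxr C (⊤ : Subgroup M)).relIndex A
  KC : IsKGroup C

section pre

variable {C : Type u} [Group C] [Finite C] {M : Type v} [Group M] [Finite M] [MulDistribMulAction C M]
  {T A : Subgroup C} {Z Y : Subgroup M}

theorem PreG.inp (h : PreG T A Z Y) :
    ∃ (H : Type u) (_ : Group H) (_ : Finite H) (_ : MulDistribMulAction H M) (T' A' : Subgroup H),
      InpG T' A' Z Y := by
  have htriv : ∀ k ∈ fxr C (⊤ : Subgroup M), ∀ m : M, k • m = m := fun k hk m => hk m (mem_top m)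
  have hN : (fxr C (⊤ : Subgroup M)).Normal := fxr_normal fun _ _ _ => mem_top _
  set N := fxr C (⊤ : Subgroup M) with hNdef
  let _ : MulDistribMulAction (C ⧸ N) M := quoAct N htriv
  let π : C →* C ⧸ N := QuotientGroup.mk' N
  have hπ : Function.Surjective π := QuotientGroup.mk'_surjective N
  have he : ∀ (g : C) (v : M), π g • v = g • v := fun _ _ => rfl
  have hker : ∀ k : C, (∀ v : M, k • v = v) → π k = 1 := fun k hk =>
    (QuotientGroup.eq_one_iff k).2 fun v _ => hk v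
  have hker2 : ∀ k : C, π k = 1 → ∀ v : M, k • v = v := fun k hk v =>
    (QuotientGroup.eq_one_iff k).1 hk v (mem_top v)
  -- stabilisers
  have hfx : ∀ Y' : Subgroup M, (fxr C Y').map π = fxr (C ⧸ N) Y' := by
    intro Y'
    ext g
    constructor
    · rintro ⟨c, hc, rfl⟩
      exact hc
    · intro hg
      obtain ⟨c, rfl⟩ := hπ g
      exact ⟨c, hg, rfl⟩
  have ho2 : ∀ S : Subgroup C, A ≤ o2 S → A.map π ≤ o2 (S.map π) := by
    intro S hS
    refine (map_mono hS).trans (MinSimple.VModule.le_o2 (map_mono (MinSimple.VModule.o2_le _)) ((o2_isPGroup _).map π) ?_)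
    exact (map_mono (MinSimple.VModule.le_normalizer_o2 _)).trans (le_normalizer_map π)
  have hx : A.map π ≤ o2 (fxr (C ⧸ N) Z) := by
    rw [← hfx]
    exact ho2 _ h.AZ
  have hy : A.map π ≤ o2 (fxr (C ⧸ N) Y ⊔ T.map π) := by
    rw [← hfx, ← Subgroup.map_sup]
    exact ho2 _ h.AY
  have hsyl : ¬ 2 ∣ (T.map π).index := fun h2 => h.syl (h2.trans (index_map_dvd T hπ))
  have hKH : IsKGroup (C ⧸ N) := ML.Final.sec_KG.quo C h.KC N
  have hel : ∀ a ∈ A.map π, a * a = 1 := by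
    rintro _ ⟨a, ha, rfl⟩
    rw [← map_mul, h.el a ha, map_one]
  -- `A.map π` is faithful on `⟨Z^C⟩`
  have hfa : ∀ g ∈ A.map π, (∀ (c : C ⧸ N), ∀ z ∈ Z, g • c • z = c • z) → g = 1 := by
    rintro _ ⟨a, ha, rfl⟩ hg
    exact hker a (h.nk a ha fun c z hz => hg (π c) z hz)
  -- (NO)
  have hcv : ∀ B : Subgroup C, cv M (B.map π : Set (C ⧸ N)) = cv M (B : Set C) := by
    intro B
    ext v
    constructor
    · exact fun hv a ha => hv _ ⟨a, ha, rfl⟩
    · rintro hv _ ⟨a, ha, rfl⟩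
      exact hv a ha
  have hcard : ∀ B : Subgroup C, Nat.card (B.map π) = N.relIndex B := by
    intro B
    rw [← relIndex_bot_left, ← relIndex_comap, MonoidHom.comap_bot, QuotientGroup.ker_mk']
  have hno : ∀ B : Subgroup (C ⧸ N), B ≤ A.map π → Nat.card B ≤ (cv M (B : Set (C ⧸ N))).index := by
    intro B hB
    have e : (A ⊓ B.comap π).map π = B := by
      apply le_antisymm
      · rintro _ ⟨a, ha, rfl⟩
        exact ha.2
      · intro g hg
        obtain ⟨a, ha, rfl⟩ := hB hg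
        exact ⟨a, ⟨ha, hg⟩, rfl⟩
    rw [← e, hcv, hcard]
    exact h.no _ inf_le_left
  have hex : (cv M (A.map π : Set (C ⧸ N))).index = Nat.card (A.map π) := by
    refine le_antisymm ?_ (hno _ le_rfl)
    rw [hcv, hcard]
    exact h.le
  have hA1 : A.map π ≠ ⊥ := by
    intro h1
    obtain ⟨a, ha, m, hm⟩ := h.mv
    apply hm
    refine hker2 a ?_ m
    rw [← mem_bot, ← h1]
    exact ⟨a, ha, rfl⟩
  -- an atom
  obtain ⟨B, ⟨hBA, hB1, hBe⟩, hmin⟩ : ∃ B : Subgroup (C ⧸ N), (B ≤ A.map π ∧ B ≠ ⊥ ∧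
      (cv M (B : Set (C ⧸ N))).index = Nat.card B) ∧ ∀ B' : Subgroup (C ⧸ N), (B' ≤ A.map π ∧ B' ≠ ⊥ ∧
      (cv M (B' : Set (C ⧸ N))).index = Nat.card B') → B' ≤ B → B' = B := by
    obtain ⟨B, hB⟩ := (Set.toFinite {B : Subgroup (C ⧸ N) | B ≤ A.map π ∧ B ≠ ⊥ ∧
      (cv M (B : Set (C ⧸ N))).index = Nat.card B}).exists_minimal ⟨A.map π, le_rfl, hA1, hex⟩
    exact ⟨B, hB.prop, fun B' hB' hle => le_antisymm hle (hB.le_of_le hB' hle)⟩
  have htZ : ∀ z ∈ Z, ∀ t ∈ T.map π, t • z = z := by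
    rintro z hz _ ⟨t, ht, rfl⟩
    exact h.tZ z hz t ht
  refine ⟨C ⧸ N, inferInstance, inferInstance, inferInstance, T.map π, B, ?_⟩
  refine ⟨h.sq, h.two.map π, hsyl, htZ, ?_, ?_, ?_, ?_, fun a ha => hel a (hBA ha), hBe, ?_, ?_, hBA.trans hx,
    hBA.trans hy, hKH⟩
  · intro g hg z hz
    obtain ⟨t, ht, n, hn, rfl⟩ := KL.Quo.norm_lift π hπ h.two h.syl hg
    rw [he, mul_smul]
    exact h.NZ t (le_normalizer ht) _ (h.NZ n hn z hz)
  · rintro _ ⟨t, ht, rfl⟩ w hw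
    exact h.tY t ht w hw
  · intro P hP
    obtain ⟨R, hR, rfl⟩ := Quo.exists_minPar π hπ hP
    rcases h.par R hR with h1 | h1
    · left
      rintro z hz _ ⟨r, hr, rfl⟩
      exact h1 z hz r hr
    · right
      intro g hg hog w hw
      obtain ⟨c, hc, hco, rfl⟩ := TwoZ.exists_odd π hg hog
      exact h1 c hc hco w hw
  · intro L hTL x hx' g hgL hgN hgo h1 h2 w hw
    have h3 : g ∈ (normalizer (T : Set C)).map π := by
      obtain ⟨t, ht, n, hn, rfl⟩ := KL.Quo.norm_lift π hπ h.two h.syl hgN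
      exact ⟨t * n, mul_mem (le_normalizer ht) hn, rfl⟩
    obtain ⟨c, hc, hco, rfl⟩ := TwoZ.exists_odd π h3 hgo
    have horb : orb (L.comap π) x = orb L x := by
      apply le_antisymm
      · exact orb_le fun k hk => smul_mem_orb_self (g := π k) hk
      · refine orb_le fun k hk => ?_
        obtain ⟨k', rfl⟩ := hπ k
        exact smul_mem_orb_self (R := L.comap π) (g := k') hk
    refine h.cG (L.comap π) (map_le_iff_le_comap.1 hTL) x hx' c hgL hc hco (fun t ht l hl => ?_) (fun w hw => ?_) w hw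
    · have := h1 (π t) ⟨t, ht, rfl⟩ (π l) hl
      rwa [← map_inv, ← map_inv, ← map_mul, ← map_mul, ← map_mul] at this
    · obtain ⟨w0, h4, h5⟩ := h2 w hw
      exact ⟨w0, fun l hl => h4 (π l) hl, by rw [horb]; exact h5⟩
  · intro B' hB' hB1' hne
    refine lt_of_le_of_ne (hno B' (hB'.trans hBA)) fun h1 => hne ?_
    exact hmin B' ⟨hB'.trans hBA, hB1', h1.symm⟩ hB'
  · -- `O₂(H)` centralises `⟨Z^H⟩`
    intro hle
    apply hB1
    rw [eq_bot_iff]
    intro b hb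
    rw [mem_bot]
    refine hfa b (hBA hb) fun c z hz => ?_
    have h1 : c⁻¹ * b * c ∈ o2 (⊤ : Subgroup (C ⧸ N)) := by
      have := (mem_normalizer_iff.1 (MinSimple.VModule.le_normalizer_o2 (⊤ : Subgroup (C ⧸ N)) (mem_top c⁻¹)) b).1 (hle hb)
      rwa [inv_inv] at this
    have h2 : o2 (⊤ : Subgroup (C ⧸ N)) ≤ T.map π :=
      MinSimple.VModule.o2_le_of_sylow (h.two.map π) (by rwa [relIndex_top_right])
    have h3 := htZ z hz _ (h2 h1)
    rw [mul_smul, mul_smul, inv_smul_eq_iff] at h3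
    exact h3

end pre

end Cfsg.Agent.Omega.KL.StarQ
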